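import Mathlib

set_option autoImplicit false
universe u v
open scoped BigOperators
open HomogeneousLocalization

namespace Groth.Agent.Lib.Helper5.NRA

variable {R : Type u} {A : Type v} [CommRing R] [CommRing A] [Algebra R A]
    (𝒜 : ℕ → Submodule R A) [GradedAlgebra 𝒜]

/-- equality of fractions in `Localization.Away` from an equation in `A`. -/
theorem mk_eq_mk_of_eq {τ : A} (a b : A) (m n : ℕ) (h : a * τ ^ n = b * τ ^ m) :
    (Localization.mk a ⟨τ ^ m, (Submonoid.mem_powers_iff _ _).mpr ⟨m, rfl⟩⟩ : Localization.Away τ) = Localization.mk b ⟨τ ^ n, (Submonoid.mem_powers_iff _ _).mpr ⟨n, rfl⟩⟩ := by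
  rw [Localization.mk_eq_mk_iff, Localization.r_iff_exists]
  refine ⟨1, ?_⟩
  simp only [OneMemClass.coe_one, one_mul]
  rw [mul_comm, h, mul_comm]

variable {n : ℕ} (σ : Fin n → A) (hσ : ∀ i, σ i ∈ 𝒜 1) {s : ℕ}
    (K : Fin n → ℕ) (hK : ∑ i, K i = s)

include hσ hK in
theorem tau_mem : (∏ i, σ i ^ K i) ∈ 𝒜 s := by
  have := SetLike.prod_pow_mem_graded 𝒜 (fun _ => 1) σ (F := Finset.univ) K (fun i _ => hσ i)
  simpa [hK] using this

/-- the generator `f/τ`. -/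
noncomputable def gen (hτ : (∏ i, σ i ^ K i) ∈ 𝒜 s) (f : A) (hf : f ∈ 𝒜 s) :
    Away 𝒜 (∏ i, σ i ^ K i) :=
  Away.mk 𝒜 hτ 1 f (by simpa using hf)

theorem gen_val (hτ : (∏ i, σ i ^ K i) ∈ 𝒜 s) (f : A) (hf : f ∈ 𝒜 s) :
    (gen 𝒜 σ K hτ f hf).val = Localization.mk f ⟨(∏ i, σ i ^ K i) ^ 1, (Submonoid.mem_powers_iff _ _).mpr ⟨1, rfl⟩⟩ := by
  rw [gen, Away.val_mk]

theorem gen_mem (hτ : (∏ i, σ i ^ K i) ∈ 𝒜 s) (f : A) (hf : f ∈ 𝒜 s) :
    gen 𝒜 σ K hτ f hf ∈ Algebra.adjoin (𝒜 0)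
      {z : Away 𝒜 (∏ i, σ i ^ K i) |
        ∃ f ∈ 𝒜 s, z.val = Localization.mk f ⟨∏ i, σ i ^ K i, Submonoid.mem_powers _⟩} := by
  apply Algebra.subset_adjoin
  refine ⟨f, hf, ?_⟩
  rw [gen_val]
  congr 1
  exact Subtype.ext (pow_one _)

include hσ in
theorem sig_pow_mem (i : Fin n) (m : ℕ) : σ i ^ m ∈ 𝒜 m := by
  have := SetLike.pow_mem_graded m (hσ i)
  simpa using this

include hK in
theorem prod_u (hτ : (∏ i, σ i ^ K i) ∈ 𝒜 s) (hs : ∀ i, σ i ^ s ∈ 𝒜 s) :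
    ∏ i, (gen 𝒜 σ K hτ (σ i ^ s) (hs i)) ^ K i = 1 := by
  apply HomogeneousLocalization.val_injective
  rw [val_one]
  have h1 : ∀ i, ((gen 𝒜 σ K hτ (σ i ^ s) (hs i)) ^ K i).val =
      Localization.mk ((σ i ^ s) ^ K i) ⟨(∏ i, σ i ^ K i) ^ K i, (Submonoid.mem_powers_iff _ _).mpr ⟨K i, rfl⟩⟩ := by
    intro i
    rw [val_pow, gen_val, Localization.mk_pow]
    congr 1
    exact Subtype.ext (by simp)
  have h2 : (∏ i, (gen 𝒜 σ K hτ (σ i ^ s) (hs i)) ^ K i).val =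
      ∏ i, ((gen 𝒜 σ K hτ (σ i ^ s) (hs i)) ^ K i).val := by
    exact map_prod (algebraMap (Away 𝒜 (∏ i, σ i ^ K i)) (Localization.Away (∏ i, σ i ^ K i))) _ _
  rw [h2]
  simp only [h1, Localization.mk_prod]
  rw [← Localization.mk_one]
  rw [Localization.mk_eq_mk_iff, Localization.r_iff_exists]
  refine ⟨1, ?_⟩
  simp only [OneMemClass.coe_one, one_mul, mul_one, SubmonoidClass.coe_finsetProd]
  rw [Finset.prod_pow_eq_pow_sum, hK]
  simp only [← pow_mul, mul_comm s]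
  simp only [pow_mul]
  rw [Finset.prod_pow]

end Groth.Agent.Lib.Helper5.NRA
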