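import Mathlib
import Groth.Agent.Lib.Helper5.NR.A

set_option autoImplicit false
universe u v
open scoped BigOperators
open HomogeneousLocalization

namespace Groth.Agent.Lib.Helper5.NRA

variable {R : Type u} {A : Type v} [CommRing R] [CommRing A] [Algebra R A]
    (𝒜 : ℕ → Submodule R A) [GradedAlgebra 𝒜]

theorem mk_mul_mk_eq {τ : A} (a b c : A) (m n l : ℕ) (h : a * b * τ ^ l = c * τ ^ (m + n)) :
    (Localization.mk a ⟨τ ^ m, (Submonoid.mem_powers_iff _ _).mpr ⟨m, rfl⟩⟩ : Localization.Away τ) *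
      Localization.mk b ⟨τ ^ n, (Submonoid.mem_powers_iff _ _).mpr ⟨n, rfl⟩⟩ =
      Localization.mk c ⟨τ ^ l, (Submonoid.mem_powers_iff _ _).mpr ⟨l, rfl⟩⟩ := by
  rw [Localization.mk_mul, Localization.mk_eq_mk_iff, Localization.r_iff_exists]
  refine ⟨1, ?_⟩
  simp only [OneMemClass.coe_one, one_mul, Submonoid.coe_mul]
  rw [← pow_add, mul_comm, h, mul_comm]

variable {n : ℕ} (σ : Fin n → A) (hσ : ∀ i, σ i ∈ 𝒜 1) {s : ℕ}
    (K : Fin n → ℕ) (hK : ∑ i, K i = s)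

include hσ hK in
theorem main (hs : 0 < s)
    (hgen : ∀ i, Algebra.adjoin (𝒜 0)
      {z : HomogeneousLocalization.Away 𝒜 (σ i) |
        ∃ f ∈ 𝒜 s, z.val = Localization.mk f ⟨σ i ^ s, Submonoid.pow_mem _ (Submonoid.mem_powers (σ i)) s⟩} = ⊤) :
    Algebra.adjoin (𝒜 0)
      {z : HomogeneousLocalization.Away 𝒜 (∏ i, σ i ^ K i) |
        ∃ f ∈ 𝒜 s, z.val = Localization.mk f ⟨∏ i, σ i ^ K i, Submonoid.mem_powers _⟩} = ⊤ := by
  classical
  have hτ := tau_mem 𝒜 σ hσ K hK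
  have hsp : ∀ i, σ i ^ s ∈ 𝒜 s := fun i => sig_pow_mem 𝒜 σ hσ i s
  set B := Algebra.adjoin (𝒜 0)
      {z : HomogeneousLocalization.Away 𝒜 (∏ i, σ i ^ K i) |
        ∃ f ∈ 𝒜 s, z.val = Localization.mk f ⟨∏ i, σ i ^ K i, Submonoid.mem_powers _⟩} with hB
  -- an index with positive exponent
  obtain ⟨i₀, hi₀⟩ : ∃ i₀, 0 < K i₀ := by
    by_contra h
    push Not at h
    have : ∑ i, K i = 0 := Finset.sum_eq_zero fun i _ => Nat.le_zero.mp (h i)
    omega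
  set τ' : A := σ i₀ ^ (K i₀ - 1) * ∏ i ∈ Finset.univ.erase i₀, σ i ^ K i with hτ'
  have hx : (∏ i, σ i ^ K i) = σ i₀ * τ' := by
    rw [hτ', ← mul_assoc, ← pow_succ', Nat.sub_add_cancel hi₀]
    exact (Finset.mul_prod_erase _ (fun i => σ i ^ K i) (Finset.mem_univ i₀)).symm
  have hg : τ' ∈ 𝒜 ((K i₀ - 1) • 1 + ∑ i ∈ Finset.univ.erase i₀, K i • 1) := by
    apply SetLike.mul_mem_graded
    · exact SetLike.pow_mem_graded _ (hσ i₀)
    · exact SetLike.prod_pow_mem_graded 𝒜 (fun _ => 1) σ K (fun i _ => hσ i)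
  -- the units
  set u := gen 𝒜 σ K hτ (σ i₀ ^ s) (hsp i₀) with hu
  set w := u ^ (K i₀ - 1) * ∏ i ∈ Finset.univ.erase i₀, (gen 𝒜 σ K hτ (σ i ^ s) (hsp i)) ^ K i with hw
  have huw : u * w = 1 := by
    rw [hw, ← mul_assoc, ← pow_succ', Nat.sub_add_cancel hi₀]
    rw [← prod_u 𝒜 σ K hK hτ hsp]
    exact Finset.mul_prod_erase _ (fun i => (gen 𝒜 σ K hτ (σ i ^ s) (hsp i)) ^ K i) (Finset.mem_univ i₀)
  have huB : u ∈ B := gen_mem 𝒜 σ K hτ _ _
  have hwB : w ∈ B := by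
    apply mul_mem
    · exact pow_mem huB _
    · exact prod_mem fun i _ => pow_mem (gen_mem 𝒜 σ K hτ _ _) _
  -- the map
  let φ := awayMapₐ 𝒜 hg hx
  have key1 : ∀ z : HomogeneousLocalization.Away 𝒜 (σ i₀), (∃ f ∈ 𝒜 s, z.val = Localization.mk f
      ⟨σ i₀ ^ s, Submonoid.pow_mem _ (Submonoid.mem_powers (σ i₀)) s⟩) → φ z ∈ B := by
    rintro z ⟨f, hf, hz⟩
    have hf' : f ∈ 𝒜 (s • 1) := by simpa using hf
    have hz' : z = Away.mk 𝒜 (hσ i₀) s f hf' := by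
      apply HomogeneousLocalization.val_injective
      rw [hz, Away.val_mk]
    have h1 : φ z * u = gen 𝒜 σ K hτ f hf := by
      apply HomogeneousLocalization.val_injective
      rw [val_mul, hz', awayMapₐ_apply, awayMap_mk, Away.val_mk, hu, gen_val, gen_val]
      apply mk_mul_mk_eq
      rw [hx]
      ring
    have h2 : φ z = gen 𝒜 σ K hτ f hf * w := by
      rw [← h1, mul_assoc, huw, mul_one]
    rw [h2]
    exact mul_mem (gen_mem 𝒜 σ K hτ f hf) hwB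
  have key2 : ∀ y : HomogeneousLocalization.Away 𝒜 (σ i₀), φ y ∈ B := by
    intro y
    have hy : y ∈ Algebra.adjoin (𝒜 0)
      {z : HomogeneousLocalization.Away 𝒜 (σ i₀) |
        ∃ f ∈ 𝒜 s, z.val = Localization.mk f
          ⟨σ i₀ ^ s, Submonoid.pow_mem _ (Submonoid.mem_powers (σ i₀)) s⟩} := by
      rw [hgen i₀]; trivial
    have h3 : Subalgebra.map φ (Algebra.adjoin (𝒜 0)
      {z : HomogeneousLocalization.Away 𝒜 (σ i₀) |
        ∃ f ∈ 𝒜 s, z.val = Localization.mk f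
          ⟨σ i₀ ^ s, Submonoid.pow_mem _ (Submonoid.mem_powers (σ i₀)) s⟩}) ≤ B := by
      rw [AlgHom.map_adjoin, Algebra.adjoin_le_iff]
      rintro _ ⟨z, hz, rfl⟩
      exact key1 z hz
    exact h3 ⟨y, hy, rfl⟩
  rw [eq_top_iff]
  intro z _
  obtain ⟨m, g, hgm, rfl⟩ := Away.mk_surjective 𝒜 hτ z
  have hgm' : g ∈ 𝒜 ((m * s) • 1) := by simpa using hgm
  let y : HomogeneousLocalization.Away 𝒜 (σ i₀) := Away.mk 𝒜 (hσ i₀) (m * s) g hgm'
  have h4 : Away.mk 𝒜 hτ m g hgm = φ y * u ^ m := by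
    apply HomogeneousLocalization.val_injective
    rw [val_mul, val_pow, awayMapₐ_apply, awayMap_mk, Away.val_mk, Away.val_mk, hu, gen_val,
      Localization.mk_pow]
    have : (⟨(∏ i, σ i ^ K i) ^ 1, (Submonoid.mem_powers_iff _ _).mpr ⟨1, rfl⟩⟩ :
        Submonoid.powers (∏ i, σ i ^ K i)) ^ m =
        ⟨(∏ i, σ i ^ K i) ^ m, (Submonoid.mem_powers_iff _ _).mpr ⟨m, rfl⟩⟩ :=
      Subtype.ext (by simp)
    rw [this]
    symm
    apply mk_mul_mk_eq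
    rw [hx]
    ring
  rw [h4]
  exact mul_mem (key2 y) (pow_mem huB m)

end Groth.Agent.Lib.Helper5.NRA
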